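import Cfsg.Agent.Lib.Blocks.Defect
import Cfsg.Agent.Lib.Blocks.DefectZero
import Cfsg.Agent.Lib.Blocks.HeightZero
import Cfsg.Agent.Lib.Blocks.NormalP
import Cfsg.Agent.Lib.Characters.Gallagher

/-!
# Pairs in two classes with quotient in a subgroup; characters with a normal `p`-subgroup in the kernel
-/

set_option autoImplicit false
set_option linter.unusedSectionVars false
set_option linter.style.haveILetI false

namespace Cfsg.Agent.Lib.NormalDefect

open Cfsg Cfsg.Agent.Lib.Characters Cfsg.Agent.Lib.Blocks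
open scoped ComplexConjugate

universe u

variable {G : Type u} [Group G] [Fintype G]

/-- The number of pairs in two classes with quotient in `S`. -/
theorem card_pairs [Fintype (IrrCharacter G)] (S : Subgroup G) [Fintype S] (x y : G) :
    (Nat.card {q : G × G // IsConj x q.1 ∧ IsConj y q.2 ∧ q.2 * q.1⁻¹ ∈ S} : ℂ) =
      ((Subgroup.centralizer ({x} : Set G)).index : ℂ) *
        ((Subgroup.centralizer ({y} : Set G)).index : ℂ) * (Nat.card S : ℂ) / (Nat.card G : ℂ) *
      ∑ χ : IrrCharacter G, (χ : G → ℂ) x * conj ((χ : G → ℂ) y) *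
        classInner (fun s : S => (χ : G → ℂ) s) (fun _ => 1) / (χ : G → ℂ) 1 := by
  classical
  let e : {q : G × G // IsConj x q.1 ∧ IsConj y q.2 ∧ q.2 * q.1⁻¹ ∈ S} ≃
      {r : G × S // IsConj x r.1 ∧ IsConj y ((r.2 : G) * r.1)} :=
    { toFun := fun q => ⟨(q.1.1, ⟨q.1.2 * q.1.1⁻¹, q.2.2.2⟩), q.2.1, by
        simpa [mul_assoc] using q.2.2.1⟩
      invFun := fun r => ⟨(r.1.1, (r.1.2 : G) * r.1.1), r.2.1, r.2.2, by simp [mul_assoc]⟩
      left_inv := fun q => Subtype.ext (Prod.ext rfl (by simp [mul_assoc]))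
      right_inv := fun r => Subtype.ext (Prod.ext rfl (Subtype.ext (by simp [mul_assoc]))) }
  have h1 : (Nat.card {r : G × S // IsConj x r.1 ∧ IsConj y ((r.2 : G) * r.1)} : ℂ) =
      ∑ s : S, ∑ z : G, classIndicator x z * classIndicator y ((s : G) * z) := by
    rw [Finset.sum_comm, ← Fintype.sum_prod_type', Nat.card_eq_fintype_card, Fintype.card_subtype,
      ← Finset.sum_boole]
    refine Finset.sum_congr rfl fun r _ => ?_
    by_cases ha : IsConj x r.1 <;> by_cases hb : IsConj y ((r.2 : G) * r.1) <;>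
      simp only [classIndicator, ha, hb, and_true, and_false, if_true, if_false, mul_one, mul_zero]
  rw [Nat.card_congr e, h1]
  have hy : ∀ w : G, classIndicator y w = ∑ χ : IrrCharacter G,
      (Nat.card {x : G // IsConj y x} : ℂ) / (Nat.card G : ℂ) *
        (conj ((χ : G → ℂ) y) * (χ : G → ℂ) w) := fun w => by
    have hreal : conj (classIndicator y w) = classIndicator y w := by
      unfold classIndicator; split_ifs <;> simp
    rw [← hreal, classIndicator_eq_sum, map_sum]
    refine Finset.sum_congr rfl fun χ _ => ?_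
    simp only [map_mul, map_div₀, map_natCast, Complex.conj_conj]
  simp only [hy, Finset.mul_sum]
  rw [Finset.sum_congr rfl fun s _ => Finset.sum_comm, Finset.sum_comm]
  refine Finset.sum_congr rfl fun χ _ => ?_
  have h2 : ∀ s : S, ∑ z : G, classIndicator x z *
      ((Nat.card {x : G // IsConj y x} : ℂ) / (Nat.card G : ℂ) *
        (conj ((χ : G → ℂ) y) * (χ : G → ℂ) ((s : G) * z))) =
      (Nat.card {x : G // IsConj y x} : ℂ) / (Nat.card G : ℂ) * conj ((χ : G → ℂ) y) *
        ((Nat.card {z : G // IsConj x z} : ℂ) * (χ : G → ℂ) s * (χ : G → ℂ) x /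
          (χ : G → ℂ) 1) := fun s => by
    rw [← IsIrrCharacter.sum_class_translate χ.2 (s : G) x, Finset.mul_sum]
    exact Finset.sum_congr rfl fun z _ => by ring
  rw [Finset.sum_congr rfl fun s _ => h2 s]
  simp only [card_conj_eq_index, classInner, map_one, mul_one]
  rw [← Finset.mul_sum, ← Finset.sum_div, ← Finset.sum_mul, ← Finset.mul_sum]
  have hS : (Nat.card S : ℂ) ≠ 0 := natCard_ne_zero_complex
  field_simp

variable {M : Ideal AlgInt} [M.IsPrime] {p : ℕ}

/-- A natural number with `n / p ^ k` a local integer is divisible by `p ^ k`. -/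
theorem pow_dvd_of_memLocalRing (hM : IsPModular p M) {n k : ℕ}
    (h : MemLocalRing M ((n : ℂ) / (p : ℂ) ^ k)) : p ^ k ∣ n := by
  induction k generalizing n with
  | zero => simp
  | succ k ih =>
    have hp0 : (p : ℂ) ≠ 0 := Nat.cast_ne_zero.2 hM.1.ne_zero
    have hn : MemLocalIdeal M (n : ℂ) := by
      rw [show (n : ℂ) = (p : ℂ) * ((p : ℂ) ^ k * ((n : ℂ) / (p : ℂ) ^ (k + 1))) by
        rw [pow_succ]; field_simp]
      exact memLocalIdeal_of_p_mul hM
        (memLocalRing_mul (memLocalRing_pow (memLocalRing_natCast p) k) h)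
    obtain ⟨j, rfl⟩ := (memLocalIdeal_natCast_iff hM n).1 hn
    rw [pow_succ', ← mul_div_mul_left _ _ hp0] at *
    refine Nat.mul_dvd_mul_left p (ih ?_)
    convert h using 1
    push_cast
    field_simp

variable [Fact p.Prime] {D : Subgroup G} [D.Normal] [Fintype D]

/-- The `p`-part of the order of the quotient. -/
theorem factorization_card_quotient :
    (Nat.card (G ⧸ D)).factorization p =
      (Nat.card G).factorization p - (Nat.card D).factorization p := by
  rw [Subgroup.card_eq_card_quotient_mul_card_subgroup D,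
    Nat.factorization_mul Nat.card_pos.ne' Nat.card_pos.ne', Finsupp.add_apply,
    Nat.add_sub_cancel_right]

/-- The degree of a character with `D` in the kernel. -/
theorem factorization_degree_le (χ : IrrCharacter G) (hker : ∀ n ∈ D, (χ : G → ℂ) n = (χ : G → ℂ) 1) :
    (charDegree (χ : G → ℂ)).factorization p ≤
      (Nat.card G).factorization p - (Nat.card D).factorization p := by
  obtain ⟨ψ, hψ, he⟩ := IsIrrCharacter.exists_quotient χ.2 D hker
  have hd : charDegree (χ : G → ℂ) = charDegree ψ := by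
    simp [charDegree, he, QuotientGroup.mk'_apply, QuotientGroup.mk_one]
  haveI := Fintype.ofFinite (G ⧸ D)
  rw [hd, ← factorization_card_quotient (p := p) (D := D)]
  exact (Nat.factorization_le_iff_dvd (charDegree_pos (⟨ψ, hψ⟩ : IrrCharacter (G ⧸ D))).ne'
    Nat.card_pos.ne').2 (charDegree_dvd_card (⟨ψ, hψ⟩ : IrrCharacter (G ⧸ D))) p

/-- A character of defect zero modulo `D` vanishes at the `p`-elements outside `D`. -/
theorem eq_zero_of_degree (hM : IsPModular p M) (χ : IrrCharacter G)
    (hker : ∀ n ∈ D, (χ : G → ℂ) n = (χ : G → ℂ) 1)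
    (hdeg : (charDegree (χ : G → ℂ)).factorization p =
      (Nat.card G).factorization p - (Nat.card D).factorization p)
    {s : G} (hs : ∃ k : ℕ, s ^ p ^ k = 1) (hsD : s ∉ D) : (χ : G → ℂ) s = 0 := by
  obtain ⟨ψ, hψ, he⟩ := IsIrrCharacter.exists_quotient χ.2 D hker
  haveI := Fintype.ofFinite (G ⧸ D)
  let ψ' : IrrCharacter (G ⧸ D) := ⟨ψ, hψ⟩
  have hd : charDegree (χ : G → ℂ) = charDegree ψ := by
    simp [charDegree, he, QuotientGroup.mk'_apply, QuotientGroup.mk_one]
  rw [← factorization_card_quotient (p := p) (D := D), hd] at hdeg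
  have hnd : ¬ p ∣ Nat.card (G ⧸ D) / charDegree (ψ' : G ⧸ D → ℂ) := by
    intro h
    obtain ⟨j, hj⟩ := charDegree_dvd_card ψ'
    rw [hj, Nat.mul_div_cancel_left j (charDegree_pos ψ')] at h
    have hj0 : j ≠ 0 := fun h0 => Nat.card_pos.ne' (hj.trans (by rw [h0, mul_zero]))
    rw [hj, Nat.factorization_mul (charDegree_pos ψ').ne' hj0, Finsupp.add_apply] at hdeg
    have := (Fact.out : p.Prime).factorization_pos_of_dvd hj0 h
    change (charDegree ψ).factorization p = (charDegree ψ).factorization p + _ at hdeg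
    omega
  have hp : p ∣ orderOf (s : G ⧸ D) := by
    obtain ⟨k, hk⟩ := hs
    obtain ⟨i, -, hi⟩ := (Nat.dvd_prime_pow (Fact.out : p.Prime)).1
      (orderOf_dvd_of_pow_eq_one (by rw [← QuotientGroup.mk_pow, hk, QuotientGroup.mk_one] :
        (s : G ⧸ D) ^ p ^ k = 1))
    rw [hi]
    refine dvd_pow_self p fun h0 => hsD ?_
    rw [h0, pow_zero, orderOf_eq_one_iff] at hi
    exact (QuotientGroup.eq_one_iff s).1 hi
  rw [he]
  exact eq_zero_of_blockOf_eq_singleton hM ψ' (blockOf_eq_singleton hM ψ' hnd) hp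

end Cfsg.Agent.Lib.NormalDefect
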