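import Mathlib.LinearAlgebra.Matrix.Rank
import Mathlib.LinearAlgebra.Matrix.ToLin
import Mathlib.LinearAlgebra.Basis.VectorSpace

/-!
# The rank of a matrix is unchanged by extending the field
-/

set_option autoImplicit false

namespace Cfsg.Agent.Lib.NormalDefect

variable {n : Type*} [Fintype n] {F : Type*} [Field F]

/-- A rank factorisation with one-sided inverses. -/
theorem exists_rank_factor [DecidableEq n] (A : Matrix n n F) :
    ∃ (C : Matrix n (Fin A.rank) F) (R : Matrix (Fin A.rank) n F)
      (L : Matrix (Fin A.rank) n F) (R' : Matrix n (Fin A.rank) F),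
      A = C * R ∧ L * A * R' = 1 := by
  set f : (n → F) →ₗ[F] (n → F) := A.mulVecLin with hf
  let b : Module.Basis (Fin A.rank) F (LinearMap.range f) := Module.finBasis F (LinearMap.range f)
  let g : (n → F) →ₗ[F] (Fin A.rank → F) := b.equivFun.toLinearMap ∘ₗ f.rangeRestrict
  let i : (Fin A.rank → F) →ₗ[F] (n → F) :=
    (LinearMap.range f).subtype ∘ₗ b.equivFun.symm.toLinearMap
  have hig : i ∘ₗ g = f := by
    refine LinearMap.ext fun v => ?_
    simp [i, g]
  have hg : Function.Surjective g :=
    b.equivFun.surjective.comp f.surjective_rangeRestrict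
  have hi : Function.Injective i :=
    Subtype.val_injective.comp b.equivFun.symm.injective
  obtain ⟨g', hg'⟩ := g.exists_rightInverse_of_surjective (LinearMap.range_eq_top.2 hg)
  obtain ⟨i', hi'⟩ := i.exists_leftInverse_of_injective (LinearMap.ker_eq_bot.2 hi)
  have hA : LinearMap.toMatrix' f = A := by
    rw [hf, ← Matrix.toLin'_apply', LinearMap.toMatrix'_toLin']
  refine ⟨LinearMap.toMatrix' i, LinearMap.toMatrix' g, LinearMap.toMatrix' i',
    LinearMap.toMatrix' g', ?_, ?_⟩
  · rw [← LinearMap.toMatrix'_comp, hig, hA]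
  · conv_lhs => enter [1, 2]; rw [← hA, ← hig]
    rw [← LinearMap.toMatrix'_comp, ← LinearMap.toMatrix'_comp,
      show (i' ∘ₗ (i ∘ₗ g)) ∘ₗ g' = (i' ∘ₗ i) ∘ₗ (g ∘ₗ g') from rfl, hi', hg',
      LinearMap.id_comp, LinearMap.toMatrix'_id]

/-- The rank is unchanged by a homomorphism of fields. -/
theorem rank_map_eq {K : Type*} [Field K] (f : F →+* K) (A : Matrix n n F) :
    (A.map f).rank = A.rank := by
  classical
  obtain ⟨C, R, L, R', hA, h1⟩ := exists_rank_factor A
  refine le_antisymm ?_ ?_
  · rw [show A.map f = C.map f * R.map f by rw [← Matrix.map_mul, ← hA]]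
    exact (Matrix.rank_mul_le_left _ _).trans
      ((Matrix.rank_le_card_width _).trans (Fintype.card_fin _).le)
  · have h2 : L.map f * A.map f * R'.map f = 1 := by
      rw [← Matrix.map_mul, ← Matrix.map_mul, h1, Matrix.map_one f (map_zero f) (map_one f)]
    have h3 := congrArg Matrix.rank h2
    rw [Matrix.rank_one, Fintype.card_fin] at h3
    exact h3.symm.trans_le
      ((Matrix.rank_mul_le_left _ _).trans (Matrix.rank_mul_le_right _ _))

end Cfsg.Agent.Lib.NormalDefect
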