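import Cfsg.Agent.Lib.NormalDefect.Pairs
import Cfsg.Agent.Lib.NormalDefect.RankMap
import Cfsg.Agent.Lib.BlockHeights.DefectClasses

/-!
# Blocks with a given normal defect group and the rank of a counting matrix

Modulo `M` the counting matrix factors through the central characters of the characters of defect
zero of `G ⧸ D`.
-/

set_option autoImplicit false
set_option linter.unusedSectionVars false
set_option linter.style.haveILetI false

namespace Cfsg.Agent.Lib.NormalDefect

open Cfsg Cfsg.Agent.Lib.Characters Cfsg.Agent.Lib.Blocks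
open scoped ComplexConjugate Matrix

universe u

variable {G : Type u} [Group G] [Fintype G] {M : Ideal AlgInt} [M.IsPrime] {p : ℕ}

theorem centralizer_inv_singleton (x : G) :
    Subgroup.centralizer ({x⁻¹} : Set G) = Subgroup.centralizer ({x} : Set G) := by
  ext g
  simp only [Subgroup.mem_centralizer_singleton_iff]
  exact ⟨fun h => by simpa using (Commute.inv_right (show Commute g x⁻¹ from h)).eq,
    fun h => (Commute.inv_right (show Commute g x from h)).eq⟩

theorem blockCoeff_eq_of_isConj (B : Set (IrrCharacter G)) {g h : G} (hgh : IsConj g h) :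
    blockCoeff B g = blockCoeff B h :=
  IsClassFunction.eq_of_isConj (isClassFunction_blockCoeff B) hgh

theorem centralChar_eq_of_isConj (χ : IrrCharacter G) {g h : G} (hgh : IsConj g h) :
    centralChar (χ : G → ℂ) g = centralChar (χ : G → ℂ) h := by
  obtain ⟨c, rfl⟩ := isConj_iff.1 hgh
  exact (centralChar_conj χ c g).symm

open Classical in
/-- **The count of the blocks with a normal defect group.** -/
theorem card_blocks_eq_rank [hp : Fact p.Prime] (hM : IsPModular p M) (D : Subgroup G) [D.Normal]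
    (hD : IsPGroup p D) (S : Sylow p G) {ι : Type*} [Fintype ι] [DecidableEq ι]
    (K : ι → ConjClasses G) (hKinj : Function.Injective K)
    (hK : ∀ C : ConjClasses G, (∃ i, K i = C) ↔ ∃ x ∈ C.carrier, ¬ p ∣ orderOf x ∧
      ∃ Q : Sylow p (Subgroup.centralizer ({x} : Set G)),
        (Q : Subgroup (Subgroup.centralizer ({x} : Set G))).map
          (Subgroup.centralizer ({x} : Set G)).subtype = D) :
    Nat.card {B : Set (IrrCharacter G) // IsPBlock M B ∧ IsDefectGroup p M B D} =
      (Matrix.of fun i j : ι => ((Nat.card {yz : G × G // yz.1 ∈ (K i).carrier ∧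
        yz.2 ∈ (K j).carrier ∧ yz.2 * yz.1⁻¹ ∈ (S : Subgroup G)} /
          p ^ ((Nat.card G).factorization p - (Nat.card D).factorization p) : ℕ) : ZMod p)).rank := by
  haveI := Fintype.ofFinite (IrrCharacter G)
  haveI : Fintype D := Fintype.ofFinite _
  haveI : Fintype (S : Subgroup G) := Fintype.ofFinite _
  haveI : Finite (ConjClasses G) := Finite.of_surjective ConjClasses.mk Quotient.mk_surjective
  haveI := Fintype.ofFinite (ConjClasses G)
  haveI := resField_charP hM
  set a := (Nat.card G).factorization p with ha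
  set d := (Nat.card D).factorization p with hd
  set e := a - d with he
  have hcardD : Nat.card D = p ^ d := by
    obtain ⟨k, hk⟩ := hD.exists_card_eq
    rw [hd, hk, Nat.Prime.factorization_pow hp.out, Finsupp.single_eq_same]
  have hda : d ≤ a :=
    (Nat.factorization_le_iff_dvd Nat.card_pos.ne' Nat.card_pos.ne').2
      (Subgroup.card_subgroup_dvd_card D) p
  obtain ⟨n', hn', hn'p⟩ := exists_eq_pow_mul hp.out (Nat.card_pos (α := G)).ne'
  rw [← ha] at hn'
  have hp0 : (p : ℂ) ≠ 0 := Nat.cast_ne_zero.2 hp.out.ne_zero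
  have hn'0 : (n' : ℂ) ≠ 0 := Nat.cast_ne_zero.2 fun h => hn'p (h ▸ dvd_zero p)
  have hS : Nat.card (S : Subgroup G) = p ^ a := S.card_eq_multiplicity
  -- representatives
  choose x hxK hxreg hxQ using fun i => (hK (K i)).1 ⟨i, rfl⟩
  have hcarrier : ∀ i z, z ∈ (K i).carrier ↔ IsConj (x i) z := fun i z => by
    rw [ConjClasses.mem_carrier_iff_mk_eq, ← ConjClasses.mem_carrier_iff_mk_eq.1 (hxK i),
      ConjClasses.mk_eq_mk_iff_isConj, isConj_comm]
  have hxinj : ∀ i j, IsConj (x i) (x j) → i = j := fun i j h => hKinj (by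
    rw [← ConjClasses.mem_carrier_iff_mk_eq.1 (hxK i), ← ConjClasses.mem_carrier_iff_mk_eq.1 (hxK j),
      ConjClasses.mk_eq_mk_iff_isConj]
    exact h)
  have hCp : ∀ i, ((Subgroup.centralizer ({x i} : Set G)).index).factorization p = e := fun i => by
    obtain ⟨Q, hQ⟩ := hxQ i
    have h1 : d = (Nat.card (Subgroup.centralizer ({x i} : Set G))).factorization p := by
      apply Nat.pow_right_injective hp.out.two_le
      show p ^ d = p ^ _
      rw [← card_sylowSub Q, ← hcardD]
      exact (congrArg (fun H : Subgroup G => Nat.card H) hQ).symm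
    rw [he, ha, ← Subgroup.index_mul_card (Subgroup.centralizer ({x i} : Set G)),
      Nat.factorization_mul Subgroup.index_ne_zero_of_finite Nat.card_pos.ne', Finsupp.add_apply,
      ← h1, Nat.add_sub_cancel_right]
  choose k hk hkp using fun i =>
    exists_eq_pow_mul hp.out (n := (Subgroup.centralizer ({x i} : Set G)).index)
      Subgroup.index_ne_zero_of_finite
  simp only [hCp] at hk
  have hinv : ∀ i, ∃ j, IsConj (x j) (x i)⁻¹ := fun i => by
    obtain ⟨j, hj⟩ := (hK (ConjClasses.mk (x i)⁻¹)).2 ⟨(x i)⁻¹, ConjClasses.mem_carrier_mk,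
      by rw [orderOf_inv]; exact hxreg i, by rw [centralizer_inv_singleton]; exact hxQ i⟩
    refine ⟨j, (hcarrier j _).1 ?_⟩
    rw [hj]
    exact ConjClasses.mem_carrier_mk
  choose σ hσ using hinv
  have hσinj : Function.Injective σ := fun i j h => hxinj i j (by
    have h1 : IsConj (x i)⁻¹ (x j)⁻¹ := (hσ i).symm.trans (h ▸ hσ j)
    obtain ⟨c, hc⟩ := isConj_iff.1 h1
    exact isConj_iff.2 ⟨c, by rw [← inv_inj, ← hc]; group⟩)
  have hσbij : Function.Bijective σ := (Finite.injective_iff_bijective).1 hσinj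
  -- characters
  let m : IrrCharacter G → ℂ := fun χ =>
    classInner (fun s : (S : Subgroup G) => (χ : G → ℂ) s) (fun _ => 1)
  let Ker : IrrCharacter G → Prop := fun χ => ∀ n ∈ D, (χ : G → ℂ) n = (χ : G → ℂ) 1
  let X := Finset.univ.filter fun χ : IrrCharacter G =>
    Ker χ ∧ (charDegree (χ : G → ℂ)).factorization p = e
  choose u hu hup using fun χ : IrrCharacter G =>
    exists_eq_pow_mul hp.out (charDegree_pos χ).ne'
  have hχ1 : ∀ χ : IrrCharacter G,
      (χ : G → ℂ) 1 = (p : ℂ) ^ (charDegree (χ : G → ℂ)).factorization p * (u χ : ℂ) := fun χ => by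
    rw [← charDegree_eq χ]
    exact_mod_cast hu χ
  have hu0 : ∀ χ, (u χ : ℂ) ≠ 0 := fun χ => Nat.cast_ne_zero.2 fun h => hup χ (h ▸ dvd_zero p)
  have hDS : D ≤ (S : Subgroup G) := by
    obtain ⟨S', hS'⟩ := hD.exists_le_sylow
    obtain ⟨g, rfl⟩ := MulAction.exists_smul_eq G S S'
    intro n hn
    have h1 := hS' (Subgroup.Normal.conj_mem inferInstance n hn g)
    rw [Sylow.coe_subgroup_smul, Subgroup.mem_pointwise_smul_iff_inv_smul_mem] at h1
    simpa [MulAut.smul_def, mul_assoc] using h1
  have hmker : ∀ χ : IrrCharacter G, m χ ≠ 0 → Ker χ := by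
    intro χ hm n hn
    by_contra hne
    have hav : Characters.avgN D (χ : G → ℂ) = 0 := by
      refine (IsIrrCharacter.avgN_eq D χ.2).resolve_right fun h => hne ?_
      have := avgN_apply_coe D (χ : G → ℂ) ⟨n, hn⟩
      rwa [h] at this
    have h0 : classInner (fun y : D => (χ : G → ℂ) y) (fun _ => 1) = 0 := by
      rw [← avgN_one D, hav]
      rfl
    refine hm ?_
    haveI : Fintype (D.subgroupOf (S : Subgroup G)) := Fintype.ofFinite _
    haveI := Fintype.ofFinite (IrrCharacter (S : Subgroup G))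
    obtain ⟨c, hc⟩ := IsCharacter.exists_classInner_nat
      (IsCharacter.restrict (irr_isCharacter χ) (S : Subgroup G)) isCharacter_one
    by_contra hm'
    obtain ⟨ψ, hψ, hsplit⟩ := IsCharacter.exists_add_of_classInner_ne_zero
      (IsCharacter.restrict (irr_isCharacter χ) (S : Subgroup G)) isIrrCharacter_one hm'
    have h2 := IsCharacter.classInner_ne_zero_of_add
      (IsCharacter.restrict (isCharacter_one (G := (S : Subgroup G))) (D.subgroupOf (S : Subgroup G)))
      (IsCharacter.restrict hψ (D.subgroupOf (S : Subgroup G)))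
      (isCharacter_one (G := D.subgroupOf (S : Subgroup G)))
      (by rw [IsIrrCharacter.classInner_self isIrrCharacter_one]; exact one_ne_zero)
    refine h2 ?_
    rw [← h0, ← classInner_comp_equiv (Subgroup.subgroupOfEquivOfLe hDS)]
    congr 1
    funext y
    exact (congrFun hsplit y).symm
  have hXm : ∀ χ ∈ X, m χ = u χ := by
    intro χ hχ
    obtain ⟨hker, hdeg⟩ := (Finset.mem_filter.1 hχ).2
    show classInner (fun s : (S : Subgroup G) => (χ : G → ℂ) s) (fun _ => 1) = _
    have hval : ∀ s : (S : Subgroup G), (χ : G → ℂ) s =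
        if (s : G) ∈ D then (χ : G → ℂ) 1 else 0 := by
      intro s
      split_ifs with hs
      · exact hker _ hs
      · obtain ⟨j, hj⟩ := S.2 s
        exact eq_zero_of_degree hM χ hker (by rw [hdeg]) ⟨j, by
          rw [← SubgroupClass.coe_pow, hj, OneMemClass.coe_one]⟩ hs
    simp only [classInner, map_one, mul_one, hval, Finset.sum_ite, Finset.sum_const,
      Finset.sum_const_zero, add_zero, mul_zero, nsmul_eq_mul]
    have hc : (Finset.univ.filter fun s : (S : Subgroup G) => (s : G) ∈ D).card = p ^ d := by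
      rw [← hcardD, ← Nat.card_eq_finsetCard]
      exact Nat.card_congr ((Equiv.subtypeEquivRight fun s => by simp).trans
        (Equiv.subtypeSubtypeEquivSubtype (fun {g} hg => hDS hg)))
    rw [hc, hS, hχ1, hdeg, Nat.cast_pow, Nat.cast_pow, show a = e + d from
      (Nat.sub_add_cancel hda).symm, pow_add]
    field_simp
  let w : IrrCharacter G → ℂ := fun χ => (p : ℂ) ^ e * m χ / (χ : G → ℂ) 1
  have hw : ∀ χ, MemLocalRing M (w χ) ∧ MemLocalIdeal M (w χ - if χ ∈ X then 1 else 0) := by
    intro χ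
    by_cases hχ : χ ∈ X
    · have h1 : w χ = 1 := by
        simp only [w, hXm χ hχ, hχ1, (Finset.mem_filter.1 hχ).2.2]
        exact div_self (mul_ne_zero (pow_ne_zero _ hp0) (hu0 χ))
      rw [h1, if_pos hχ, sub_self]
      exact ⟨memLocalRing_one, memLocalIdeal_zero⟩
    rw [if_neg hχ, sub_zero]
    suffices h : MemLocalIdeal M (w χ) from ⟨memLocalIdeal_mem_ring h, h⟩
    by_cases hm : m χ = 0
    · simp only [w, hm, mul_zero, zero_div]
      exact memLocalIdeal_zero
    have hker := hmker χ hm
    have hle : (charDegree (χ : G → ℂ)).factorization p ≤ e := factorization_degree_le χ hker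
    have hlt : (charDegree (χ : G → ℂ)).factorization p < e := lt_of_le_of_ne hle fun h =>
      hχ (Finset.mem_filter.2 ⟨Finset.mem_univ _, hker, h⟩)
    obtain ⟨c, hc⟩ := Nat.exists_eq_add_of_lt hlt
    obtain ⟨mn, hmn⟩ := IsCharacter.exists_classInner_nat
      (IsCharacter.restrict (irr_isCharacter χ) (S : Subgroup G)) isCharacter_one
    have h2 : w χ = (p : ℂ) * ((p : ℂ) ^ c * (mn : ℂ) * (u χ : ℂ)⁻¹) := by
      simp only [w, m, hmn, hχ1]
      rw [hc, pow_succ, pow_add]
      have := hu0 χ
      field_simp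
    rw [h2]
    exact memLocalIdeal_of_p_mul hM (memLocalRing_mul (memLocalRing_mul
      (memLocalRing_pow (memLocalRing_natCast p) c) (memLocalRing_natCast mn))
      (memLocalRing_inv_natCast hM (hup χ)))
  -- the entries
  let N : ι → ι → ℕ := fun i j => Nat.card {yz : G × G // yz.1 ∈ (K i).carrier ∧
    yz.2 ∈ (K j).carrier ∧ yz.2 * yz.1⁻¹ ∈ (S : Subgroup G)}
  have hN : ∀ i j, (N i j : ℂ) / (p : ℂ) ^ e = ∑ χ : IrrCharacter G,
      (k i : ℂ) * (k j : ℂ) * (n' : ℂ)⁻¹ *
        ((χ : G → ℂ) (x i) * conj ((χ : G → ℂ) (x j))) * w χ := by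
    intro i j
    have h := card_pairs (S : Subgroup G) (x i) (x j)
    rw [show N i j = Nat.card {q : G × G // IsConj (x i) q.1 ∧ IsConj (x j) q.2 ∧
        q.2 * q.1⁻¹ ∈ (S : Subgroup G)} from
      Nat.card_congr (Equiv.subtypeEquivRight fun q => by rw [hcarrier, hcarrier]), h, hk, hk, hS,
      hn', Finset.mul_sum, Finset.sum_div]
    refine Finset.sum_congr rfl fun χ _ => ?_
    simp only [w, m]
    push_cast
    field_simp
  have hR : ∀ i j, MemLocalRing M ((N i j : ℂ) / (p : ℂ) ^ e) := fun i j => by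
    rw [hN]
    exact memLocalRing_sum _ fun χ _ => memLocalRing_mul (memLocalRing_mul (memLocalRing_mul
      (memLocalRing_mul (memLocalRing_natCast _) (memLocalRing_natCast _))
      (memLocalRing_inv_natCast hM hn'p))
      (memLocalRing_mul (memLocalRing_of_isIntegral' (isIntegral_char χ _))
        (memLocalRing_of_isIntegral' (isIntegral_conj_char χ _)))) (hw χ).1
  -- characters outside the blocks
  let Bl := {B : Set (IrrCharacter G) // IsPBlock M B ∧ IsDefectGroup p M B D}
  haveI : Fintype Bl := Fintype.ofFinite _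
  choose χB hχB using fun B : Bl => IsPBlock.nonempty B.2.1
  have hout : ∀ χ : IrrCharacter G, ¬ IsDefectGroup p M (blockOf M (χ : G → ℂ)) D →
      ∀ i, MemLocalIdeal M (centralChar (χ : G → ℂ) (x i)) := by
    intro χ hnd i
    by_contra hω
    obtain ⟨g, hg⟩ := exists_isDefectClass hM (isPBlock_blockOf (M := M) χ)
    obtain ⟨P⟩ : Nonempty (Sylow p (Subgroup.centralizer ({g} : Set G))) := inferInstance
    obtain ⟨Q, hQ⟩ := hxQ i
    have hle := (isConjLE_of_omega hM (isPBlock_blockOf χ) hg P Q (self_mem_blockOf χ) hω).card_le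
    rw [show sylowSub Q = D from hQ] at hle
    have hDP : D ≤ sylowSub P :=
      le_of_isDefectGroup hM hD (isPBlock_blockOf χ) ⟨g, hg, P, rfl⟩
    exact hnd ⟨g, hg, P, Subgroup.eq_of_le_of_card_ge hDP hle⟩
  let c : Bl → ℂ := fun B => (n' : ℂ)⁻¹ * ∑ χ ∈ X, if χ ∈ B.1 then (u χ : ℂ) ^ 2 else 0
  have hcR : ∀ B, MemLocalRing M (c B) := fun B =>
    memLocalRing_mul (memLocalRing_inv_natCast hM hn'p) (memLocalRing_sum _ fun χ _ => by
      split_ifs
      exacts [memLocalRing_pow (memLocalRing_natCast _) 2, memLocalRing_zero])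
  have hω : ∀ χ ∈ X, ∀ (g : G) (kk : ℕ),
      (Subgroup.centralizer ({g} : Set G)).index = p ^ e * kk →
      (kk : ℂ) * (χ : G → ℂ) g = (u χ : ℂ) * centralChar (χ : G → ℂ) g := by
    intro χ hχ g kk hg
    have := hu0 χ
    rw [centralChar, hg, hχ1, (Finset.mem_filter.1 hχ).2.2]
    push_cast
    field_simp
  have hentry : ∀ i j, MemLocalIdeal M ((N i j : ℂ) / (p : ℂ) ^ e - ∑ B : Bl,
      centralChar (χB B : G → ℂ) (x i) * c B * centralChar (χB B : G → ℂ) (x j)⁻¹) := by
    intro i j
    set T : IrrCharacter G → ℂ := fun χ => (n' : ℂ)⁻¹ * (u χ : ℂ) ^ 2 *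
      (centralChar (χ : G → ℂ) (x i) * centralChar (χ : G → ℂ) (x j)⁻¹) with hT
    have h1 : MemLocalIdeal M ((N i j : ℂ) / (p : ℂ) ^ e - ∑ χ ∈ X, T χ) := by
      have hX : ∑ χ ∈ X, T χ = ∑ χ : IrrCharacter G, (k i : ℂ) * (k j : ℂ) * (n' : ℂ)⁻¹ *
          ((χ : G → ℂ) (x i) * conj ((χ : G → ℂ) (x j))) * (if χ ∈ X then 1 else 0) := by
        simp only [mul_ite, mul_one, mul_zero]
        rw [← Finset.sum_filter, Finset.filter_mem_eq_inter, Finset.univ_inter]
        refine Finset.sum_congr rfl fun χ hχ => ?_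
        have h3 := hω χ hχ (x i) (k i) (hk i)
        have h4 := hω χ hχ (x j)⁻¹ (k j) (by rw [centralizer_inv_singleton]; exact hk j)
        rw [← IsCharacter.apply_inv (irr_isCharacter χ),
          show ∀ α β γ δ ε : ℂ, α * β * γ * (δ * ε) = γ * ((α * δ) * (β * ε)) from
            fun α β γ δ ε => by ring, h3, h4]
        simp only [hT]
        ring
      rw [hX, hN, ← Finset.sum_sub_distrib]
      refine memLocalIdeal_sum _ fun χ _ => ?_
      rw [← mul_sub]
      exact memLocalIdeal_mul_left (memLocalRing_mul (memLocalRing_mul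
        (memLocalRing_mul (memLocalRing_natCast _) (memLocalRing_natCast _))
        (memLocalRing_inv_natCast hM hn'p))
        (memLocalRing_mul (memLocalRing_of_isIntegral' (isIntegral_char χ _))
          (memLocalRing_of_isIntegral' (isIntegral_conj_char χ _)))) (hw χ).2
    have h2 : MemLocalIdeal M (∑ χ ∈ X, T χ - ∑ B : Bl,
        centralChar (χB B : G → ℂ) (x i) * c B * centralChar (χB B : G → ℂ) (x j)⁻¹) := by
      have hB : ∑ B : Bl, centralChar (χB B : G → ℂ) (x i) * c B *
          centralChar (χB B : G → ℂ) (x j)⁻¹ = ∑ χ ∈ X, ∑ B : Bl,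
          if χ ∈ B.1 then (n' : ℂ)⁻¹ * (u χ : ℂ) ^ 2 * (centralChar (χB B : G → ℂ) (x i) *
            centralChar (χB B : G → ℂ) (x j)⁻¹) else 0 := by
        rw [Finset.sum_comm]
        refine Finset.sum_congr rfl fun B _ => ?_
        simp only [c, Finset.mul_sum, Finset.sum_mul]
        exact Finset.sum_congr rfl fun χ _ => by split_ifs <;> ring
      rw [hB, ← Finset.sum_sub_distrib]
      refine memLocalIdeal_sum _ fun χ _ => ?_
      have hR0 : MemLocalRing M ((n' : ℂ)⁻¹ * (u χ : ℂ) ^ 2) :=
        memLocalRing_mul (memLocalRing_inv_natCast hM hn'p)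
          (memLocalRing_pow (memLocalRing_natCast _) 2)
      by_cases hd : IsDefectGroup p M (blockOf M (χ : G → ℂ)) D
      · set B₀ : Bl := ⟨blockOf M (χ : G → ℂ), isPBlock_blockOf χ, hd⟩
        rw [Finset.sum_eq_single B₀ (fun B _ hne => if_neg fun h => hne (Subtype.ext
          (IsPBlock.eq_blockOf B.2.1 h))) (fun h => absurd (Finset.mem_univ _) h),
          if_pos (self_mem_blockOf χ), hT]
        rw [← mul_sub]
        refine memLocalIdeal_mul_left hR0 ?_
        have hs : SameBlock M (χ : G → ℂ) (χB B₀ : G → ℂ) := hχB B₀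
        have := memLocalIdeal_add
          (memLocalIdeal_mul_right (hs (x i)) (memLocalRing_centralChar χ (x j)⁻¹))
          (memLocalIdeal_mul_left (memLocalRing_centralChar (χB B₀) (x i)) (hs (x j)⁻¹))
        convert this using 1
        ring
      · rw [Finset.sum_eq_zero fun B _ => if_neg fun h => hd
          (by rw [← IsPBlock.eq_blockOf B.2.1 h]; exact B.2.2), sub_zero, hT]
        exact memLocalIdeal_mul_left hR0
          (memLocalIdeal_mul_right (hout χ hd i) (memLocalRing_centralChar _ _))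
    convert memLocalIdeal_add h1 h2 using 1
    ring
  -- the multiplicity of a block is a unit
  have hcunit : ∀ B : Bl, ¬ MemLocalIdeal M (c B) := by
    intro B hc
    obtain ⟨g, hg, P, hP⟩ := B.2.2
    have hreg : ¬ p ∣ orderOf g := IsDefectClass.regular hM B.2.1 hg
    have hcomm : ∀ y ∈ D, Commute g y := fun y hy => by
      rw [hP] at hy
      have := Subgroup.mem_centralizer_singleton_iff.1 (sylowSub_le P hy)
      exact this.symm
    have hidx : ((Subgroup.centralizer ({g} : Set G)).index).factorization p = e := by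
      rw [← sInf_degree_eq_of_defectClass hM B.2.1 hg]
      have := IsDefectGroup.card_eq hM B.2.1 B.2.2
      rw [hcardD] at this
      have h2 : d = blockDefect p B.1 := Nat.pow_right_injective hp.out.two_le this
      rw [he, h2, blockDefect, Nat.sub_sub_self]
      obtain ⟨η, hη, hηe⟩ := Nat.sInf_mem ((IsPBlock.nonempty B.2.1).image
        (fun χ : IrrCharacter G => (charDegree (χ : G → ℂ)).factorization p))
      rw [← hηe]
      exact (Nat.factorization_le_iff_dvd (charDegree_pos η).ne' Nat.card_pos.ne').2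
        (charDegree_dvd_card η) p
    obtain ⟨kg, hkg, hkgp⟩ := exists_eq_pow_mul hp.out
      (n := (Subgroup.centralizer ({g} : Set G)).index) Subgroup.index_ne_zero_of_finite
    rw [hidx] at hkg
    have hsum : ∑ y : D, blockCoeff B.1 (g * y) = blockCoeff B.1 g := by
      rw [Finset.sum_eq_single (1 : D)]
      · simp
      · intro y _ hy
        refine blockCoeff_eq_zero_of_dvd hM B.2.1 ?_
        obtain ⟨i, hi⟩ := IsPGroup.iff_orderOf.1 hD y
        have hi' : orderOf (y : G) = p ^ i := by rw [Subgroup.orderOf_coe, hi]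
        rw [(hcomm y y.2).orderOf_mul_eq_mul_orderOf_of_coprime (by
          rw [hi']
          exact (Nat.Coprime.pow_left i (hp.out.coprime_iff_not_dvd.2 hreg)).symm), hi']
        refine Dvd.dvd.mul_left (dvd_pow_self p fun h0 => hy ?_) _
        rw [h0, pow_zero, orderOf_eq_one_iff] at hi
        exact hi
      · simp
    have hy : ∀ χ : IrrCharacter G, ∑ y : D, (χ : G → ℂ) (g * y)⁻¹ =
        if Ker χ then (Nat.card D : ℂ) * (χ : G → ℂ) g⁻¹ else 0 := by
      intro χ
      split_ifs with hk'
      · rw [Finset.sum_congr rfl fun (y : D) _ => show (χ : G → ℂ) (g * y)⁻¹ = (χ : G → ℂ) g⁻¹ by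
          rw [mul_inv_rev, ((hcomm y y.2).inv_inv).eq.symm]
          exact IsCharacter.apply_mul_of_mem_kernel (irr_isCharacter χ)
            (hk' _ (inv_mem y.2)) g⁻¹, Finset.sum_const, Finset.card_univ, nsmul_eq_mul,
          Nat.card_eq_fintype_card]
      · have hav : Characters.avgN D (χ : G → ℂ) = 0 := by
          refine (IsIrrCharacter.avgN_eq D χ.2).resolve_right fun h => hk' fun n hn => ?_
          have := avgN_apply_coe D (χ : G → ℂ) ⟨n, hn⟩
          rwa [h] at this
        have h5 := congrFun hav g⁻¹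
        simp only [Characters.avgN, Pi.zero_apply, mul_eq_zero, inv_eq_zero,
          natCard_ne_zero_complex, false_or] at h5
        rw [← h5]
        refine Fintype.sum_equiv (Equiv.inv D) _ _ fun y => ?_
        rw [mul_inv_rev]
        rfl
    have hkg0 : (kg : ℂ) ≠ 0 := Nat.cast_ne_zero.2 fun h => hkgp (h ▸ dvd_zero p)
    have heq : blockCoeff B.1 g = (kg : ℂ)⁻¹ * ((n' : ℂ)⁻¹ * ∑ χ ∈ X,
        if χ ∈ B.1 then (u χ : ℂ) ^ 2 * centralChar (χ : G → ℂ) g⁻¹ else 0) := by
      rw [← hsum]
      simp only [blockCoeff_eq_finsum_inv, finsum_irr_eq_sum_ite, Finset.mul_sum]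
      rw [Finset.sum_comm]
      rw [← Finset.sum_subset (Finset.subset_univ X) fun χ _ hχ => ?_]
      · refine Finset.sum_congr rfl fun χ hχ => ?_
        obtain ⟨hker, hdeg⟩ := (Finset.mem_filter.1 hχ).2
        by_cases hB' : χ ∈ B.1
        · simp only [if_pos hB', ← Finset.mul_sum]
          rw [hy χ, if_pos hker, hcardD, hn', hχ1, hdeg]
          have h3 := hω χ hχ g⁻¹ kg (by rw [centralizer_inv_singleton]; exact hkg)
          rw [show (u χ : ℂ) ^ 2 * centralChar (χ : G → ℂ) g⁻¹ =
            (u χ : ℂ) * ((kg : ℂ) * (χ : G → ℂ) g⁻¹) by rw [h3]; ring]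
          rw [show a = e + d from (Nat.sub_add_cancel hda).symm]
          push_cast
          rw [pow_add]
          field_simp
        · simp [if_neg hB']
      · by_cases hB' : χ ∈ B.1
        · simp only [if_pos hB', ← Finset.mul_sum]
          rw [hy χ, if_neg fun hker => hχ (Finset.mem_filter.2 ⟨Finset.mem_univ _, hker, ?_⟩),
            mul_zero, mul_zero]
          refine le_antisymm (factorization_degree_le χ hker) ?_
          rw [← hidx, ← sInf_degree_eq_of_defectClass hM B.2.1 hg]
          exact Nat.sInf_le (Set.mem_image_of_mem _ hB')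
        · simp [if_neg hB']
    refine hg.2.1 ?_
    rw [heq]
    refine memLocalIdeal_mul_left (memLocalRing_inv_natCast hM hkgp) ?_
    have hcong : MemLocalIdeal M (((n' : ℂ)⁻¹ * ∑ χ ∈ X,
        if χ ∈ B.1 then (u χ : ℂ) ^ 2 * centralChar (χ : G → ℂ) g⁻¹ else 0) -
        c B * centralChar (χB B : G → ℂ) g⁻¹) := by
      simp only [c, mul_assoc, Finset.sum_mul, ← mul_sub, ← Finset.sum_sub_distrib]
      refine memLocalIdeal_mul_left (memLocalRing_inv_natCast hM hn'p)
        (memLocalIdeal_sum _ fun χ _ => ?_)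
      split_ifs with hB'
      · rw [← mul_sub]
        exact memLocalIdeal_mul_left (memLocalRing_pow (memLocalRing_natCast _) 2)
          (IsPBlock.sameBlock B.2.1 hB' (hχB B) g⁻¹)
      · rw [zero_mul, sub_zero]; exact memLocalIdeal_zero
    exact (memLocalIdeal_iff_of_sub hcong).2
      (memLocalIdeal_mul_right hc (memLocalRing_centralChar _ _))
  -- separation
  have hsep : ∀ B B' : Bl, MemLocalIdeal M ((if B = B' then (1 : ℂ) else 0) -
      ∑ i, blockCoeff B.1 (x i) * centralChar (χB B' : G → ℂ) (x i)) := by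
    intro B B'
    have h0 : omega (χB B' : G → ℂ) (blockCoeff B.1) = if B = B' then 1 else 0 := by
      rw [omega_blockCoeff]
      refine if_congr ⟨fun h => Subtype.ext ?_, fun h => h ▸ hχB B⟩ rfl rfl
      rw [IsPBlock.eq_blockOf B.2.1 h, IsPBlock.eq_blockOf B'.2.1 (hχB B')]
    rw [← h0, omega_eq_sum_classes (irr_isClassFunction _) (isClassFunction_blockCoeff _),
      ← Finset.sum_filter_add_sum_filter_not Finset.univ (fun C : ConjClasses G => ∃ i, K i = C)]
    have himg : ∑ C ∈ Finset.univ.filter (fun C : ConjClasses G => ∃ i, K i = C),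
        blockCoeff B.1 (Quotient.out C) * centralChar (χB B' : G → ℂ) (Quotient.out C) =
        ∑ i, blockCoeff B.1 (x i) * centralChar (χB B' : G → ℂ) (x i) := by
      refine (Finset.sum_bij (fun i _ => K i)
        (fun i _ => Finset.mem_filter.2 ⟨Finset.mem_univ _, i, rfl⟩) (fun i _ j _ h => hKinj h)
        (fun C hC => ?_) fun i _ => ?_).symm
      · obtain ⟨i, hi⟩ := (Finset.mem_filter.1 hC).2
        exact ⟨i, Finset.mem_univ _, hi⟩
      · have hc : IsConj (x i) (Quotient.out (K i)) := by
          rw [← ConjClasses.mk_eq_mk_iff_isConj, ConjClasses.mem_carrier_iff_mk_eq.1 (hxK i)]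
          exact (Quotient.out_eq (K i)).symm
        rw [blockCoeff_eq_of_isConj _ hc, centralChar_eq_of_isConj _ hc]
    rw [himg, add_sub_cancel_left]
    refine memLocalIdeal_sum _ fun C hC => ?_
    set h := Quotient.out C with hh
    by_cases hb : MemLocalIdeal M (blockCoeff B.1 h)
    · exact memLocalIdeal_mul_right hb (memLocalRing_centralChar _ _)
    by_cases hw' : MemLocalIdeal M (centralChar (χB B' : G → ℂ) h)
    · exact memLocalIdeal_mul_left ((isRCentral_blockCoeff hM B.2.1).2 _) hw'
    refine absurd ((hK C).2 ⟨h, ?_, ?_, ?_⟩) (Finset.mem_filter.1 hC).2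
    · rw [ConjClasses.mem_carrier_iff_mk_eq]; exact Quotient.out_eq C
    · exact fun hd => hb (by rw [blockCoeff_eq_zero_of_dvd hM B.2.1 hd]; exact memLocalIdeal_zero)
    obtain ⟨g, hg, P, hP⟩ := B.2.2
    obtain ⟨g', hg', P', hP'⟩ := B'.2.2
    obtain ⟨Q⟩ : Nonempty (Sylow p (Subgroup.centralizer ({h} : Set G))) := inferInstance
    refine ⟨Q, ?_⟩
    obtain ⟨b, hb'⟩ := isConjLE_of_coeff hM B.2.1 hg P (isPGroup_sylowSub Q)
      (mem_centralizer_sylowSub Q) hb
    have hle := (isConjLE_of_omega hM B'.2.1 hg' P' Q (hχB B') hw').card_le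
    rw [show sylowSub P' = D from hP'.symm] at hle
    rw [show sylowSub P = D from hP.symm] at hb'
    refine Subgroup.eq_of_le_of_card_ge ?_ hle
    intro q hq
    have h1 := Subgroup.Normal.conj_mem inferInstance _ (hb' ⟨q, hq, rfl⟩) b⁻¹
    simpa [mul_assoc] using h1
  -- reduction
  let r : ∀ z : ℂ, MemLocalRing M z → ResField M := fun z hz => red M ⟨z, hz⟩
  have hrcongr : ∀ z z' hz hz', MemLocalIdeal M (z - z') → r z hz = r z' hz' := fun z z' hz hz' h => by
    show red M (⟨z, hz⟩ : locSubring M) = red M ⟨z', hz'⟩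
    rw [← sub_eq_zero, ← map_sub, red_eq_zero_iff]
    exact h
  have hωR := fun (B : Bl) (g : G) => memLocalRing_centralChar (M := M) (χB B) g
  have heR := fun (B : Bl) (g : G) => (isRCentral_blockCoeff hM B.2.1).2 g
  let A : Matrix Bl ι (ResField M) := Matrix.of fun B i => r _ (hωR B (x i))
  let E : Matrix Bl ι (ResField M) := Matrix.of fun B i => r _ (heR B (x i))
  let Cd : Matrix Bl Bl (ResField M) := Matrix.diagonal fun B => r _ (hcR B)
  let Ai : Matrix Bl ι (ResField M) := Matrix.of fun B j => r _ (hωR B (x j)⁻¹)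
  let Ei : Matrix Bl ι (ResField M) := Matrix.of fun B j => r _ (heR B (x j)⁻¹)
  let Z : Matrix ι ι (ZMod p) := Matrix.of fun i j => ((N i j / p ^ e : ℕ) : ZMod p)
  show Nat.card Bl = Z.rank
  rw [← rank_map_eq (ZMod.castHom dvd_rfl (ResField M)) Z]
  set Zk := Z.map (ZMod.castHom dvd_rfl (ResField M))
  have hZk : Zk = Aᵀ * Cd * Ai := by
    ext i j
    have hdvd : p ^ e ∣ N i j := pow_dvd_of_memLocalRing hM (hR i j)
    have hq : ((N i j / p ^ e : ℕ) : ℂ) = (N i j : ℂ) / (p : ℂ) ^ e := by
      rw [Nat.cast_div hdvd (by exact_mod_cast pow_ne_zero e hp0)]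
      push_cast
      rfl
    have hl : Zk i j = red M ((N i j / p ^ e : ℕ) : locSubring M) := by
      rw [map_natCast]
      simp [Zk, Z]
    have hrhs : (Aᵀ * Cd * Ai) i j = red M (∑ B : Bl, (⟨_, hωR B (x i)⟩ : locSubring M) *
        ⟨_, hcR B⟩ * ⟨_, hωR B (x j)⁻¹⟩) := by
      rw [Matrix.mul_apply, map_sum]
      refine Finset.sum_congr rfl fun B _ => ?_
      rw [Matrix.mul_diagonal, map_mul, map_mul]
      simp only [A, Ai, Matrix.transpose_apply, Matrix.of_apply, r]
    rw [hl, hrhs, ← sub_eq_zero, ← map_sub, red_eq_zero_iff]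
    have := hentry i j
    rw [← hq] at this
    simpa using this
  have hdelta : ∀ B B' : Bl, ∀ y : ι → G,
      MemLocalIdeal M ((if B = B' then (1 : ℂ) else 0) -
        ∑ i, blockCoeff B.1 (y i) * centralChar (χB B' : G → ℂ) (y i)) →
      ∑ i, r _ (heR B (y i)) * r _ (hωR B' (y i)) = if B = B' then 1 else 0 := by
    intro B B' y h
    have h1 : (if B = B' then (1 : ResField M) else 0) =
        red M (if B = B' then 1 else 0) := by split_ifs <;> simp
    rw [h1]
    simp only [r, ← map_mul, ← map_sum]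
    rw [← sub_eq_zero, ← map_sub, red_eq_zero_iff]
    have h2 := memLocalIdeal_neg h
    rw [neg_sub] at h2
    split_ifs at h2 ⊢ <;> simpa using h2
  have hEA : E * Aᵀ = 1 := by
    ext B B'
    rw [Matrix.mul_apply, Matrix.one_apply]
    exact hdelta B B' x (hsep B B')
  have hEA' : Ai * Eiᵀ = 1 := by
    ext B' B
    rw [Matrix.mul_apply, Matrix.one_apply]
    simp only [Ai, Ei, Matrix.of_apply, Matrix.transpose_apply]
    rw [Finset.sum_congr rfl fun i _ => mul_comm _ _,
      hdelta B B' (fun i => (x i)⁻¹) ?_]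
    · exact if_congr eq_comm rfl rfl
    convert hsep B B' using 2
    refine Fintype.sum_bijective σ hσbij _ _ fun i => ?_
    rw [blockCoeff_eq_of_isConj _ (hσ i), centralChar_eq_of_isConj _ (hσ i)]
  rw [Nat.card_eq_fintype_card]
  refine le_antisymm ?_ ?_
  · have h1 : E * Zk * Eiᵀ = Cd := by
      rw [hZk, show E * (Aᵀ * Cd * Ai) * Eiᵀ = (E * Aᵀ) * Cd * (Ai * Eiᵀ) by
        simp only [Matrix.mul_assoc], hEA, hEA', Matrix.one_mul, Matrix.mul_one]
    have hCd : Cd.rank = Fintype.card Bl := by
      rw [Matrix.rank_diagonal, Fintype.card_subtype, ← Finset.card_univ]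
      congr 1
      refine Finset.filter_true_of_mem fun B _ => ?_
      intro h
      exact hcunit B (red_eq_zero_iff.1 h)
    rw [← hCd, ← h1]
    exact (Matrix.rank_mul_le_left _ _).trans (Matrix.rank_mul_le_right _ _)
  · rw [hZk, Matrix.mul_assoc]
    exact (Matrix.rank_mul_le_left _ _).trans (Matrix.rank_le_card_width _)

end Cfsg.Agent.Lib.NormalDefect
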